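import Cfsg.Agent.H328.CertMT
import Cfsg.Agent.OrdDiv.Table
import Cfsg.Agent.S0000

/-!
# The order form of the Tits group (helper328)

`isoTits`: a simple group of order 17971200 is the Tits group (uses the classification `S0000`).
-/

set_option autoImplicit false

namespace Cfsg.Agent.H328.CertTits

open Cfsg

theorem isoTits {G : Type*} [Group G] (h : Cfsg.IsTits G) : Cfsg.Lie.IsoTits G := by
  have hfin : Finite G := Nat.finite_of_card_ne_zero (by rw [h.2]; norm_num)
  have hs := h.1
  exact CertMT.isoTits_of_known OrdDiv.table Cfsg.Agent.S0000.result h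

theorem cert_tits {G : Type*} [Group G] [Finite G] (h : Cfsg.IsTits G) :
    ∃ x y : G, orderOf x = 4 ∧ y ≠ 1 ∧ Odd (orderOf y) ∧ x ^ 2 * y = y * x ^ 2 :=
  CertMT.cert_isoTits (isoTits h)

end Cfsg.Agent.H328.CertTits
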