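import Cfsg.Agent.H445.TC
import Cfsg.Agent.Mrg.Omega.TwoF.AltRk

/-!
# S3223: the alternating groups of degree at least seven (helper328)
-/

set_option autoImplicit false
set_option maxRecDepth 100000

namespace Cfsg.Agent.H328.NoTCAlt

open Equiv Equiv.Perm Cfsg.Agent.H445

variable {n : ℕ}

/-- permutations pulled from a small set commute with `s` -/
theorem via_comm {k : ℕ} (f : Fin k ↪ Fin n) (s : Perm (Fin n)) (hs : s * s = 1) (σ : Perm (Fin k))
    (hf : ∀ i, s (f i) = f (σ i)) {p : Perm (Fin k)} (hp : σ * p = p * σ) :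
    s * viaEmbeddingHom f p * s⁻¹ = viaEmbeddingHom f p := by
  have key : s * viaEmbeddingHom f p = viaEmbeddingHom f p * s := by
    ext1 x
    rw [Perm.mul_apply, Perm.mul_apply]
    change s (p.viaEmbedding f x) = p.viaEmbedding f (s x)
    by_cases hx : x ∈ Set.range f
    · obtain ⟨i, rfl⟩ := hx
      rw [viaEmbedding_apply, hf, hf, viaEmbedding_apply]
      exact congrArg f (congrArg (fun q : Perm (Fin k) => q i) hp)
    · have hsx : s x ∉ Set.range f := by
        rintro ⟨i, hi⟩
        apply hx
        refine ⟨σ i, ?_⟩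
        rw [← hf, hi, ← Perm.mul_apply, hs, Perm.one_apply]
      rw [viaEmbedding_apply_of_notMem _ _ _ hx, viaEmbedding_apply_of_notMem _ _ _ hsx]
  rw [key, mul_inv_cancel_right]

theorem via_mem {k : ℕ} (f : Fin k ↪ Fin n) (q : Perm (Fin k)) : viaEmbeddingHom f (q * q) ∈ alternatingGroup (Fin n) := by
  rw [mem_alternatingGroup, map_mul, map_mul, Int.units_mul_self]

theorem no_tc {k : ℕ} (f : Fin k ↪ Fin n) (s : Perm (Fin n)) (hs : s * s = 1) (σ q r : Perm (Fin k))
    (hf : ∀ i, s (f i) = f (σ i)) (h1 : σ * (q * q) = q * q * σ) (h2 : σ * (r * r) = r * r * σ)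
    (h3 : (r * r) * (r * r) = 1) (h4 : r * r * (q * q) * (r * r)⁻¹ = (q * q)⁻¹) (h5 : (q * q) ^ 3 = 1) (h6 : q * q ≠ 1)
    {P : Subgroup (alternatingGroup (Fin n))} {α : MulAut (alternatingGroup (Fin n))}
    (hα : ∀ x : alternatingGroup (Fin n), ((α x : alternatingGroup (Fin n)) : Perm (Fin n)) = s * x * s⁻¹)
    (h : TC P α) : False := by
  have hy := h.eq_one_of_inv (w := ⟨_, via_mem f r⟩) (y := ⟨_, via_mem f q⟩)
    (Subtype.ext ((hα _).trans (via_comm f s hs σ hf h2))) ⟨1, by
      rw [pow_one, pow_two]
      apply Subtype.ext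
      change viaEmbeddingHom f (r * r) * viaEmbeddingHom f (r * r) = 1
      rw [← map_mul, h3, map_one]⟩
    (Subtype.ext ((hα _).trans (via_comm f s hs σ hf h1))) (by
      apply Subtype.ext
      change viaEmbeddingHom f (r * r) * viaEmbeddingHom f (q * q) * (viaEmbeddingHom f (r * r))⁻¹ = (viaEmbeddingHom f (q * q))⁻¹
      rw [← map_inv, ← map_inv, ← map_mul, ← map_mul, h4]) (m := 3) (by decide) (by
      apply Subtype.ext
      change (viaEmbeddingHom f (q * q)) ^ 3 = 1
      rw [← map_pow, h5, map_one])
  apply h6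
  have h7 : viaEmbeddingHom f (q * q) = 1 := congrArg Subtype.val hy
  exact viaEmbeddingHom_injective f (h7.trans (map_one _).symm)

/-- a pick outside a small set -/
theorem exists_not_mem {S T : Finset (Fin n)} (h : T.card < S.card) : ∃ x ∈ S, x ∉ T := by
  by_contra hcon
  push Not at hcon
  exact absurd (Finset.card_le_card (show S ⊆ T from hcon)) (by omega)

/-- **A_n, n ≥ 7** -/
theorem noTC_alt {n : ℕ} (hn : 7 ≤ n) : NoTC (alternatingGroup (Fin n)) := by
  classical
  intro P α h
  obtain ⟨ψ, hψ, hconj⟩ := Omega.TwoF.AltRk.exists_psi hn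
  set s := ψ α with hs
  have hα2 : α * α = 1 := MulEquiv.ext h.sq
  have hss : s * s = 1 := by rw [hs, ← map_mul, hα2, map_one]
  have hsx : ∀ x, s (s x) = x := fun x => by rw [← Perm.mul_apply, hss, Perm.one_apply]
  have hα : ∀ x : alternatingGroup (Fin n), ((α x : alternatingGroup (Fin n)) : Perm (Fin n)) = s * x * s⁻¹ := hconj α
  set M := (Finset.univ : Finset (Fin n)).filter (fun x => s x ≠ x) with hM
  have hMm : ∀ x, x ∈ M ↔ s x ≠ x := fun x => by rw [hM, Finset.mem_filter]; simp
  have hcard : M.card + Mᶜ.card = n := by rw [Finset.card_add_card_compl, Fintype.card_fin]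
  by_cases hs1 : s = 1
  · refine no_tc (Fin.castLEEmb (show 5 ≤ n by omega)) s hss 1 c[0, 1, 2] c[0, 3, 1, 4] (fun i => by rw [hs1]; rfl)
      (by decide) (by decide) (by decide) (by decide) (by decide) (by decide) hα h
  by_cases h3 : 3 ≤ Mᶜ.card
  · -- at least three fixed points
    obtain ⟨c0, hc0, -⟩ := exists_not_mem (S := Mᶜ) (T := ∅) (by rw [Finset.card_empty]; omega)
    obtain ⟨c1, hc1, hc10⟩ := exists_not_mem (S := Mᶜ) (T := {c0}) (by rw [Finset.card_singleton]; omega)
    obtain ⟨c2, hc2, hc20⟩ := exists_not_mem (S := Mᶜ) (T := {c0, c1}) (by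
      have := Finset.card_le_two (a := c0) (b := c1)
      omega)
    obtain ⟨a, ha⟩ : ∃ a, s a ≠ a := by
      by_contra hcon
      push Not at hcon
      exact hs1 (Perm.ext hcon)
    have hfix : ∀ x, x ∈ Mᶜ → s x = x := fun x hx => by
      by_contra hne
      exact (Finset.mem_compl.1 hx) ((hMm x).2 hne)
    have f0 := hfix c0 hc0
    have f1 := hfix c1 hc1
    have f2 := hfix c2 hc2
    rw [Finset.mem_singleton] at hc10
    rw [Finset.mem_insert, Finset.mem_singleton, not_or] at hc20
    have hna : ∀ c, s c = c → c ≠ a ∧ c ≠ s a := by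
      intro c hc
      refine ⟨fun h => ha (h ▸ hc), fun h => ha ?_⟩
      have := congrArg s h
      rw [hsx, hc] at this
      rw [← h, this]
    have hinj : Function.Injective ![c0, c1, c2, a, s a] := by
      have e1 := hna c0 f0
      have e2 := hna c1 f1
      have e3 := hna c2 f2
      intro i j hij
      fin_cases i <;> fin_cases j <;> first
        | rfl
        | (exfalso; simp at hij; first
          | exact hc10 hij | exact hc10 hij.symm | exact hc20.1 hij | exact hc20.1 hij.symm | exact hc20.2 hij
          | exact hc20.2 hij.symm | exact e1.1 hij | exact e1.1 hij.symm | exact e1.2 hij | exact e1.2 hij.symm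
          | exact e2.1 hij | exact e2.1 hij.symm | exact e2.2 hij | exact e2.2 hij.symm
          | exact e3.1 hij | exact e3.1 hij.symm | exact e3.2 hij | exact e3.2 hij.symm
          | exact ha hij | exact ha hij.symm)
    refine no_tc ⟨_, hinj⟩ s hss (swap 3 4) c[0, 1, 2] c[0, 3, 1, 4] (fun i => ?_)
      (by decide) (by decide) (by decide) (by decide) (by decide) (by decide) hα h
    fin_cases i
    · exact f0
    · exact f1
    · exact f2
    · rfl
    · exact hsx a
  · -- at least three transpositions
    have hM5 : 5 ≤ M.card := by omega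
    obtain ⟨a, ha', -⟩ := exists_not_mem (S := M) (T := ∅) (by rw [Finset.card_empty]; omega)
    obtain ⟨b, hb', hb⟩ := exists_not_mem (S := M) (T := {a, s a}) (by
      have := Finset.card_le_two (a := a) (b := s a)
      omega)
    obtain ⟨c, hc', hc⟩ := exists_not_mem (S := M) (T := {a, s a, b, s b}) (by
      have := Finset.card_le_four (a := a) (b := s a) (c := b) (d := s b)
      omega)
    have ha := (hMm a).1 ha'
    have hb1 := (hMm b).1 hb'
    have hc1 := (hMm c).1 hc'
    simp only [Finset.mem_insert, Finset.mem_singleton, not_or] at hb hc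
    have sw : ∀ x y, s x = y ↔ x = s y := fun x y => ⟨fun h => by rw [← h, hsx], fun h => by rw [h, hsx]⟩
    have hinj : Function.Injective ![a, b, c, s a, s b, s c] := by
      have e1 : s b ≠ a := fun h => hb.2 ((sw b a).1 h)
      have e2 : s b ≠ s a := fun h => hb.1 (s.injective h)
      have e3 : s c ≠ a := fun h => hc.2.1 ((sw c a).1 h)
      have e4 : s c ≠ s a := fun h => hc.1 (s.injective h)
      have e5 : s c ≠ b := fun h => hc.2.2.2 ((sw c b).1 h)
      have e6 : s c ≠ s b := fun h => hc.2.2.1 (s.injective h)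
      intro i j hij
      fin_cases i <;> fin_cases j <;> first
        | rfl
        | (exfalso; simp only [] at hij; first
          | exact ha hij | exact ha hij.symm | exact hb1 hij | exact hb1 hij.symm | exact hc1 hij | exact hc1 hij.symm
          | exact hb.1 hij | exact hb.1 hij.symm | exact hb.2 hij | exact hb.2 hij.symm
          | exact hc.1 hij | exact hc.1 hij.symm | exact hc.2.1 hij | exact hc.2.1 hij.symm
          | exact hc.2.2.1 hij | exact hc.2.2.1 hij.symm | exact hc.2.2.2 hij | exact hc.2.2.2 hij.symm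
          | exact e1 hij | exact e1 hij.symm | exact e2 hij | exact e2 hij.symm | exact e3 hij | exact e3 hij.symm
          | exact e4 hij | exact e4 hij.symm | exact e5 hij | exact e5 hij.symm | exact e6 hij | exact e6 hij.symm)
    refine no_tc ⟨_, hinj⟩ s hss (swap 0 3 * swap 1 4 * swap 2 5) (c[0, 1, 2] * c[3, 4, 5]) c[0, 3, 1, 4] (fun i => ?_)
      (by decide) (by decide) (by decide) (by decide) (by decide) (by decide) hα h
    fin_cases i
    · rfl
    · rfl
    · rfl
    · exact hsx a
    · exact hsx b
    · exact hsx c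

end Cfsg.Agent.H328.NoTCAlt
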