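import Cfsg.Agent.S0112
import Cfsg.Agent.S0113
import Cfsg.Agent.S0646
import Cfsg.Agent.S0220
import Cfsg.Agent.S0483
import Cfsg.Agent.S0497
import Cfsg.Agent.S3225
import Cfsg.Agent.S3278
import Cfsg.Agent.ClassTwoFusion.Dihedral8
import Cfsg.Agent.TwoFusion.QDDihMax
import Cfsg.Agent.TwoFusion.QDQuatMax
import Cfsg.Agent.Walter.MetaPSL
import Cfsg.Agent.ClassicalGeometry.PSLTorus
import Cfsg.Agent.J4Type.TopZ
import Cfsg.Agent.Lib.Dihedral

/-!
# Simple groups with a self-centralizing cyclic subgroup of order 4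

* `two_group`: 2-groups with an element of order 4 generating its own centralizer.
* `of_four`: the simple groups with an element of order 4 whose centralizer has order 4.
* `of_le_four`: the cases of an element with centralizer of order 1, 2 or 4.
-/

set_option autoImplicit false
open Cfsg

namespace Cfsg.Agent.H328.SelfFour

open Subgroup

universe u

/-- 2-groups of order at least 8 with an element of order 4 generating its own centralizer. -/
theorem two_group {X : Type*} [Group X] [Finite X] (n : ℕ) (hn : 3 ≤ n)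
    (hX : Nat.card X = 2 ^ n) (w : X) (hw : orderOf w = 4)
    (hc : ∀ x : X, x * w = w * x → x ∈ Subgroup.zpowers w) :
    (n = 3 ∧ Nonempty (X ≃* DihedralGroup 4)) ∨
      (∃ z : X, orderOf z = 2 ∧ ∀ y : X, orderOf y = 2 → y = z) ∨ Cfsg.IsQuasiDihedral X := by
  classical
  have : Fact (Nat.Prime 2) := ⟨Nat.prime_two⟩
  have hcardA : Nat.card (Subgroup.zpowers w) = 2 ^ 2 := by
    rw [Nat.card_zpowers, hw]; norm_num
  have hCA : Subgroup.centralizer ((Subgroup.zpowers w : Subgroup X) : Set X) =
      Subgroup.zpowers w := by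
    ext x
    rw [Subgroup.mem_centralizer_iff]
    constructor
    · intro h
      exact hc x (h w (Subgroup.mem_zpowers w)).symm
    · intro hx y hy
      obtain ⟨i, rfl⟩ := Subgroup.mem_zpowers_iff.mp hx
      obtain ⟨j, rfl⟩ := Subgroup.mem_zpowers_iff.mp hy
      exact ((Commute.refl w).zpow_zpow j i).eq
  have hcl := Cfsg.Agent.S0112.result n hX (Subgroup.zpowers w) hcardA hCA
  obtain ⟨C, hCc, hCi⟩ := Cfsg.Agent.S0113.result n hn hX hcl
  have hna : ∃ x y : X, x * y ≠ y * x := by
    by_contra h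
    push Not at h
    have htop : (⊤ : Subgroup X) ≤ Subgroup.zpowers w := fun x _ => hc x (h x w)
    have h1 := Subgroup.card_le_of_le htop
    rw [Subgroup.card_top, hX, hcardA] at h1
    have : 2 ^ 3 ≤ 2 ^ n := Nat.pow_le_pow_right (by norm_num) hn
    omega
  obtain ⟨a, b, ha, hb, hab⟩ := Cfsg.Agent.S0646.result n hn hX C hCc hCi hna
  set A := Subgroup.zpowers a with hA
  have hcA : Nat.card A = 2 ^ (n - 1) := by rw [hA, Nat.card_zpowers, ha]
  have hAi : A.index = 2 := by
    have h := A.card_mul_index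
    rw [hcA, hX] at h
    have h2 : 2 ^ n = 2 ^ (n - 1) * 2 := by
      rw [← pow_succ]; congr 1; omega
    rw [h2] at h
    exact Nat.eq_of_mul_eq_mul_left (by positivity) h
  have hcov : ∀ x : X, x ∉ A → ∃ k : ℤ, x = a ^ k * b := by
    intro x hx
    have hb' : b⁻¹ ∉ A := fun h => hb (by simpa using A.inv_mem h)
    have : x * b⁻¹ ∈ A := by
      rw [Subgroup.mul_mem_iff_of_index_two hAi]
      exact iff_of_false hx hb'
    obtain ⟨k, hk⟩ := Subgroup.mem_zpowers_iff.mp this
    exact ⟨k, by rw [hk]; group⟩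
  -- an element of `A` centralizing `w` forces `n ≤ 3`
  have hwA : ∀ c : X, c * w = w * c → orderOf c ≤ 4 := by
    intro c hcw
    have h1 := hc c hcw
    have h2 : orderOf c ∣ 4 := by rw [← hw]; exact orderOf_dvd_of_mem_zpowers h1
    exact Nat.le_of_dvd (by norm_num) h2
  have hpow3 : ∀ m : ℕ, 2 ^ m ≤ 4 → m ≤ 2 := by
    intro m hm
    by_contra h
    have : 2 ^ 3 ≤ 2 ^ m := Nat.pow_le_pow_right (by norm_num) (by omega)
    omega
  have hdih : ∀ k : ℤ, b * a * b⁻¹ = a⁻¹ → (a ^ k * b) ^ 2 = b ^ 2 := by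
    intro k h
    have h1 : b * a ^ k * b⁻¹ = (a ^ k)⁻¹ := by
      rw [← conj_zpow, h, inv_zpow]
    calc (a ^ k * b) ^ 2 = a ^ k * (b * a ^ k * b⁻¹) * b ^ 2 := by rw [pow_two]; group
      _ = b ^ 2 := by rw [h1]; group
  rcases hab with ⟨hb2, hbab⟩ | ⟨hb2, hbab⟩ | ⟨hn4, hb2, hbab⟩ | ⟨hn4, hb2, hbab⟩
  · left
    have hwA' : w ∈ A := by
      by_contra h
      obtain ⟨k, hk⟩ := hcov w h
      have h2 : w ^ 2 = 1 := by rw [hk, hdih k hbab, hb2]
      have h3 := orderOf_dvd_of_pow_eq_one h2
      rw [hw] at h3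
      omega
    have h4 : orderOf a ≤ 4 := by
      apply hwA
      obtain ⟨k, hk⟩ := Subgroup.mem_zpowers_iff.mp hwA'
      rw [← hk]
      exact ((Commute.refl a).zpow_right k).eq
    have hn3 : n = 3 := by
      rw [ha] at h4
      have := hpow3 _ h4
      omega
    refine ⟨hn3, ?_⟩
    subst hn3
    have hbb : b * b = 1 := by rw [← pow_two, hb2]
    have hbi : b⁻¹ = b := inv_eq_of_mul_eq_one_right hbb
    rw [hbi] at hbab
    exact Cfsg.Agent.Lib.Dihedral.nonempty_mulEquiv (by norm_num) a b (by rw [ha]; norm_num) hbb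
      hbab hb (by rw [hX]; norm_num)
  · right; left
    set z : X := a ^ (2 ^ (n - 2)) with hz
    have hzo : orderOf z = 2 := by
      rw [hz, orderOf_pow_of_dvd (by positivity), ha]
      · have : 2 ^ (n - 1) = 2 * 2 ^ (n - 2) := by
          rw [← pow_succ']; congr 1; omega
        rw [this]
        exact Nat.mul_div_cancel _ (by positivity)
      · rw [ha]; exact pow_dvd_pow 2 (by omega)
    refine ⟨z, hzo, ?_⟩
    intro y hy
    have hyA : y ∈ A := by
      by_contra h
      obtain ⟨k, hk⟩ := hcov y h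
      have h2 : y ^ 2 = z := by rw [hk, hdih k hbab, hb2]
      rw [← hy, pow_orderOf_eq_one] at h2
      rw [← h2, orderOf_one] at hzo
      omega
    have hAc : IsCyclic A := by rw [hA]; infer_instance
    refine Cfsg.Agent.Classification.TransferSign.eq_of_isCyclic A hAc hyA ?_ ?_ ?_ ?_ ?_
    · rw [hz]; exact A.pow_mem (Subgroup.mem_zpowers a) _
    · rw [← pow_two, ← hy, pow_orderOf_eq_one]
    · rw [← pow_two, ← hzo, pow_orderOf_eq_one]
    · rintro rfl; rw [orderOf_one] at hy; omega
    · intro h; rw [h, orderOf_one] at hzo; omega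
  · exfalso
    -- `a ^ 2` is central
    have h2 : b * a ^ 2 * b⁻¹ = a ^ 2 := by
      rw [← conj_pow, hbab, ← pow_mul]
      have h3 : (1 + 2 ^ (n - 2)) * 2 = 2 + 2 ^ (n - 1) := by
        have : 2 ^ (n - 1) = 2 ^ (n - 2) * 2 := by
          rw [← pow_succ]; congr 1; omega
        rw [this]; ring
      rw [h3, pow_add, ← ha, pow_orderOf_eq_one, mul_one]
    have hcen : ∀ x : X, a ^ 2 * x = x * a ^ 2 := by
      intro x
      have hA' : ∀ y ∈ A, a ^ 2 * y = y * a ^ 2 := by
        intro y hy
        obtain ⟨k, hk⟩ := Subgroup.mem_zpowers_iff.mp hy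
        rw [← hk]
        exact (((Commute.refl a).pow_left 2).zpow_right k).eq
      by_cases hx : x ∈ A
      · exact hA' x hx
      · obtain ⟨k, hk⟩ := hcov x hx
        have hab2 : a ^ 2 * b = b * a ^ 2 := by
          calc a ^ 2 * b = (b * a ^ 2 * b⁻¹) * b := by rw [h2]
            _ = b * a ^ 2 := by group
        rw [hk]
        calc a ^ 2 * (a ^ k * b) = a ^ k * (a ^ 2 * b) := by group
          _ = a ^ k * b * a ^ 2 := by rw [hab2]; group
    have ho2 : orderOf (a ^ 2) = 2 ^ (n - 2) := by
      rw [orderOf_pow_of_dvd (by norm_num), ha]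
      · have : 2 ^ (n - 1) = 2 ^ (n - 2) * 2 := by
          rw [← pow_succ]; congr 1; omega
        rw [this]
        exact Nat.mul_div_cancel _ (by norm_num)
      · rw [ha]; exact dvd_pow_self 2 (by omega)
    have hmem : a ^ 2 ∈ Subgroup.zpowers w := hc _ (hcen w)
    have hle : Subgroup.zpowers (a ^ 2) ≤ Subgroup.zpowers w := by
      rw [Subgroup.zpowers_le]; exact hmem
    have h4 : 4 ≤ 2 ^ (n - 2) := by
      calc 4 = 2 ^ 2 := by norm_num
        _ ≤ 2 ^ (n - 2) := Nat.pow_le_pow_right (by norm_num) (by omega)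
    have heq : Subgroup.zpowers (a ^ 2) = Subgroup.zpowers w :=
      Subgroup.eq_of_le_of_card_ge hle (by rw [hcardA, Nat.card_zpowers, ho2]; exact h4)
    have hwm : w ∈ Subgroup.zpowers (a ^ 2) := by
      rw [heq]; exact Subgroup.mem_zpowers w
    obtain ⟨k, hk⟩ := Subgroup.mem_zpowers_iff.mp hwm
    have h5 : orderOf a ≤ 4 := by
      apply hwA
      rw [← hk]
      exact (((Commute.refl a).pow_right 2).zpow_right k).eq
    rw [ha] at h5
    have := hpow3 _ h5
    omega
  · right; right
    refine ⟨n - 1, by omega, by rw [hX]; congr 1; omega, a, b, ha, ?_, ?_⟩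
    · apply orderOf_eq_prime hb2
      rintro rfl
      exact hb A.one_mem
    · rw [hbab]
      congr 2

/-- A commutative simple group is cyclic. -/
theorem isCyclic_of_comm {G : Type*} [Group G] [Finite G] [IsSimpleGroup G]
    (h : ∀ a b : G, a * b = b * a) : IsCyclic G := by
  let _ : CommGroup G := { ‹Group G› with mul_comm := h }
  exact IsSimpleGroup.isCyclic

/-- A simple group which is a 2-group is cyclic. -/
theorem isCyclic_of_two_group {G : Type*} [Group G] [Finite G] [IsSimpleGroup G]
    (h : IsPGroup 2 G) : IsCyclic G := by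
  have : Fact (Nat.Prime 2) := ⟨Nat.prime_two⟩
  have h1 : Nontrivial (Subgroup.center G) := h.center_nontrivial
  apply isCyclic_of_comm
  rcases (inferInstance : (Subgroup.center G).Normal).eq_bot_or_eq_top with h2 | h2
  · exfalso
    rw [h2] at h1
    exact not_nontrivial _ h1
  · intro a b
    have : b ∈ Subgroup.center G := by rw [h2]; trivial
    exact Subgroup.mem_center_iff.mp this a

theorem no_index_two {G : Type*} [Group G] [Finite G] [IsSimpleGroup G] (hG : ¬ IsCyclic G)
    (H : Subgroup G) : H.index ≠ 2 := by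
  intro h
  apply hG
  have hn := Subgroup.normal_of_index_eq_two h
  rcases hn.eq_bot_or_eq_top with h1 | h1
  · rw [h1, Subgroup.index_bot] at h
    have : Fact (Nat.Prime 2) := ⟨Nat.prime_two⟩
    exact isCyclic_of_prime_card h
  · rw [h1, Subgroup.index_top] at h
    omega

theorem card_cent_conj {G : Type*} [Group G] (g x : G) :
    Nat.card (Subgroup.centralizer ({g * x * g⁻¹} : Set G)) =
      Nat.card (Subgroup.centralizer ({x} : Set G)) := by
  apply Nat.card_congr
  refine ⟨fun a => ⟨g⁻¹ * a * g, ?_⟩, fun a => ⟨g * a * g⁻¹, ?_⟩, ?_, ?_⟩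
  · obtain ⟨a, ha⟩ := a
    rw [Subgroup.mem_centralizer_singleton_iff] at ha ⊢
    calc g⁻¹ * a * g * x = g⁻¹ * (a * (g * x * g⁻¹)) * g := by group
      _ = g⁻¹ * ((g * x * g⁻¹) * a) * g := by rw [ha]
      _ = x * (g⁻¹ * a * g) := by group
  · obtain ⟨a, ha⟩ := a
    rw [Subgroup.mem_centralizer_singleton_iff] at ha ⊢
    calc g * a * g⁻¹ * (g * x * g⁻¹) = g * (a * x) * g⁻¹ := by group
      _ = g * (x * a) * g⁻¹ := by rw [ha]
      _ = g * x * g⁻¹ * (g * a * g⁻¹) := by group
  · intro a
    apply Subtype.ext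
    show g * (g⁻¹ * (a : G) * g) * g⁻¹ = a
    group
  · intro a
    apply Subtype.ext
    show g⁻¹ * (g * (a : G) * g⁻¹) * g = a
    group

theorem orderOf_conj {G : Type*} [Group G] (g x : G) : orderOf (g * x * g⁻¹) = orderOf x :=
  (MulAut.conj g).orderOf_eq x

section

variable {G : Type*} [Group G] [Finite G] [IsSimpleGroup G]

/-- The case of a unique involution in a Sylow 2-subgroup. -/
theorem not_unique (hG : ¬ IsCyclic G) (P : Sylow 2 G) (z : (P : Subgroup G)) (hz : orderOf z = 2)
    (hu : ∀ y : (P : Subgroup G), orderOf y = 2 → y = z) : False := by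
  have hz' : orderOf (z : G) = 2 := by rw [Subgroup.orderOf_coe]; exact hz
  obtain ⟨N, hN, hodd, hcomm⟩ := Cfsg.Agent.S0215.result P (z : G) hz' z.2 (by
    intro g hg
    have := hu ⟨g * z * g⁻¹, hg⟩ (by rw [Subgroup.orderOf_mk, orderOf_conj, hz'])
    exact congrArg Subtype.val this)
  rcases hN.eq_bot_or_eq_top with h | h
  · apply hG
    have hc : (z : G) ∈ Subgroup.center G := by
      rw [Subgroup.mem_center_iff]
      intro g
      have := hcomm g
      rw [h, Subgroup.mem_bot] at this
      calc g * z = (z * g * (z : G)⁻¹ * g⁻¹)⁻¹ * (z * g) := by group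
        _ = z * g := by rw [this]; group
    apply isCyclic_of_comm
    rcases (inferInstance : (Subgroup.center G).Normal).eq_bot_or_eq_top with h2 | h2
    · exfalso
      rw [h2, Subgroup.mem_bot] at hc
      rw [hc, orderOf_one] at hz'
      omega
    · intro a b
      have : b ∈ Subgroup.center G := by rw [h2]; trivial
      exact Subgroup.mem_center_iff.mp this a
  · rw [h, Subgroup.card_top] at hodd
    have : 2 ∣ Nat.card G := by rw [← hz']; exact orderOf_dvd_natCard _
    rcases hodd with ⟨k, hk⟩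
    omega

open Cfsg.Agent.TwoFusion.QDBasic in
/-- The quasi-dihedral case. -/
theorem not_qd (hG : ¬ IsCyclic G) (w : G) (hw : orderOf w = 4)
    (hC : Nat.card (Subgroup.centralizer ({w} : Set G)) = 4) (P : Sylow 2 G)
    (hwP : w ∈ (P : Subgroup G)) (hP : Cfsg.IsQuasiDihedral (P : Subgroup G)) : False := by
  classical
  obtain ⟨n, u, y, h⟩ := exists_qdcoord hP
  have hn := h.three_le
  set D := Cfsg.Agent.TwoFusion.QDDihMax.dihMax h with hD
  set M : Subgroup G := D.map (P : Subgroup G).subtype with hM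
  have hMP : M ≤ (P : Subgroup G) := Subgroup.map_subtype_le D
  have hMD : M.subgroupOf (P : Subgroup G) = D :=
    Subgroup.comap_map_eq_self_of_injective (P : Subgroup G).subtype_injective D
  have hMi : M.relIndex (P : Subgroup G) = 2 := by
    rw [Subgroup.relIndex, hMD, hD]
    exact Cfsg.Agent.TwoFusion.QDDihMax.index_dihMax h
  have hu1 : orderOf (u 1) = 2 ^ n := Cfsg.Agent.TwoFusion.QDQuatMax.orderOf_u_one h
  have hev : Even (Nat.card G) := by
    rw [even_iff_two_dvd]
    exact (show 2 ∣ orderOf w by rw [hw]; norm_num).trans (orderOf_dvd_natCard w)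
  obtain ⟨g, hg⟩ := Cfsg.Agent.S3225.result hev (no_index_two hG) P M hMP hMi 2 (by norm_num) (by
    intro s hs hsM
    have hsD : (⟨s, hs⟩ : (P : Subgroup G)) ∉ D := by
      intro h'
      apply hsM
      rw [← hMD, Subgroup.mem_subgroupOf] at h'
      exact h'
    rw [hD, Cfsg.Agent.TwoFusion.QDDihMax.not_mem_dihMax] at hsD
    have h2 : (⟨s, hs⟩ : (P : Subgroup G)) ^ 2 ≠ 1 := by
      rcases hsD with ⟨b, hb⟩ | ⟨b, hb⟩
      · rw [hb, h.u_pow, Ne, h.u_eq_one_iff]
        push_cast
        rw [two_mul_eq_zero_iff n h.one_le]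
        rintro (h1 | h1)
        · exact two_mul_ne_two_mul_add_one n h.one_le 0 b (by rw [h1, mul_zero])
        · refine two_mul_ne_two_mul_add_one n h.one_le (2 ^ (n - 2)) b ?_
          rw [h1, ← pow_succ']
          congr 1
          omega
      · rw [hb, h.uy_sq, Ne, h.u_eq_one_iff, half_mul_odd n h.one_le]
        exact half_ne_zero n h.one_le
    by_contra hle
    apply h2
    have h3 : orderOf (⟨s, hs⟩ : (P : Subgroup G)) ≤ 2 := by
      rw [Subgroup.orderOf_mk]; norm_num at hle; omega
    have h4 : 0 < orderOf (⟨s, hs⟩ : (P : Subgroup G)) := orderOf_pos _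
    rw [← orderOf_dvd_iff_pow_eq_one]
    interval_cases orderOf (⟨s, hs⟩ : (P : Subgroup G)) <;> norm_num) w hwP (by rw [hw]; norm_num)
  obtain ⟨s, hsD, hs⟩ := Subgroup.mem_map.mp hg
  have hs4 : orderOf s = 4 := by
    rw [← Subgroup.orderOf_coe, ← hw, ← orderOf_conj g w]
    exact congrArg orderOf hs
  have hcard := card_cent_conj g w
  rw [hC] at hcard
  rw [hD, Cfsg.Agent.TwoFusion.QDDihMax.mem_dihMax] at hsD
  rcases hsD with ⟨b, hb⟩ | ⟨b, hb⟩
  · have hmem : ((u 1 : (P : Subgroup G)) : G) ∈ Subgroup.centralizer ({g * w * g⁻¹} : Set G) := by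
      rw [Subgroup.mem_centralizer_singleton_iff, ← hs]
      have : u 1 * s = s * u 1 := by rw [hb, h.u_mul, h.u_mul, add_comm]
      exact congrArg Subtype.val this
    have h1 := Subgroup.orderOf_dvd_natCard _ hmem
    rw [hcard, Subgroup.orderOf_coe, hu1] at h1
    have h2 := Nat.le_of_dvd (by norm_num) h1
    have : 2 ^ 3 ≤ 2 ^ n := Nat.pow_le_pow_right (by norm_num) hn
    omega
  · have h2 : s ^ 2 = 1 := by
      rw [hb, h.uy_sq, h.u_eq_one_iff, half_mul_eq_zero_iff n h.one_le]
      exact ⟨b, rfl⟩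
    have h3 := orderOf_dvd_of_pow_eq_one h2
    rw [hs4] at h3
    omega

end

/-- An element of order 4 has a conjugate in any Sylow 2-subgroup. -/
theorem exists_conj_mem {G : Type*} [Group G] [Finite G] (P : Sylow 2 G) (w : G)
    (hw : orderOf w = 4) : ∃ g : G, g * w * g⁻¹ ∈ (P : Subgroup G) := by
  have : Fact (Nat.Prime 2) := ⟨Nat.prime_two⟩
  have h1 : IsPGroup 2 (Subgroup.zpowers w) :=
    IsPGroup.of_card (n := 2) (by rw [Nat.card_zpowers, hw]; norm_num)
  obtain ⟨Q, hQ⟩ := h1.exists_le_sylow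
  obtain ⟨g, hg⟩ := MulAction.exists_smul_eq G Q P
  refine ⟨g, ?_⟩
  rw [← hg, Sylow.coe_subgroup_smul]
  have h2 : w ∈ (Q : Subgroup G) := hQ (Subgroup.mem_zpowers w)
  exact Subgroup.smul_mem_pointwise_smul w (MulAut.conj g) (Q : Subgroup G) h2

theorem dihedral_four : ∀ x y : DihedralGroup 4, x * x ≠ 1 → y * y ≠ 1 → x = y ∨ x = y⁻¹ := by
  decide

/-- Elements of order 4 of a group with Sylow 2-subgroups `D₈` have centralizers of the same
order. -/
theorem card_cent_eq {G : Type*} [Group G] [Finite G] (P : Sylow 2 G)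
    (e : (P : Subgroup G) ≃* DihedralGroup 4) (w c : G) (hw : orderOf w = 4) (hc : orderOf c = 4) :
    Nat.card (Subgroup.centralizer ({c} : Set G)) =
      Nat.card (Subgroup.centralizer ({w} : Set G)) := by
  obtain ⟨g, hg⟩ := exists_conj_mem P w hw
  obtain ⟨k, hk⟩ := exists_conj_mem P c hc
  have key : ∀ (x : G) (hx : x ∈ (P : Subgroup G)), orderOf x = 4 →
      e ⟨x, hx⟩ * e ⟨x, hx⟩ ≠ 1 := by
    intro x hx h4 h
    rw [← map_mul, e.map_eq_one_iff] at h
    have h1 : x * x = 1 := congrArg Subtype.val h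
    rw [← pow_two] at h1
    have := orderOf_dvd_of_pow_eq_one h1
    rw [h4] at this
    omega
  rw [← card_cent_conj g w, ← card_cent_conj k c]
  rcases dihedral_four _ _ (key _ hg (by rw [orderOf_conj, hw])) (key _ hk (by rw [orderOf_conj, hc]))
    with h | h
  · have h1 : g * w * g⁻¹ = k * c * k⁻¹ := congrArg Subtype.val (e.injective h)
    rw [h1]
  · rw [← map_inv] at h
    have h1 : g * w * g⁻¹ = (k * c * k⁻¹)⁻¹ := congrArg Subtype.val (e.injective h)
    rw [h1]
    congr 1
    have : Subgroup.centralizer ({k * c * k⁻¹} : Set G) =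
        Subgroup.centralizer ({(k * c * k⁻¹)⁻¹} : Set G) := by
      ext x
      rw [Subgroup.mem_centralizer_singleton_iff, Subgroup.mem_centralizer_singleton_iff]
      constructor
      · intro h
        exact (Commute.inv_right (show Commute x (k * c * k⁻¹) from h)).eq
      · intro h
        have := (Commute.inv_right (show Commute x (k * c * k⁻¹)⁻¹ from h)).eq
        rwa [inv_inv] at this
    rw [this]

/-- A cyclic subgroup of order divisible by 4 has order at most the order of a centralizer. -/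
theorem card_le_of_cyclic {G : Type*} [Group G] [Finite G] (P : Sylow 2 G)
    (e : (P : Subgroup G) ≃* DihedralGroup 4) (w : G) (hw : orderOf w = 4)
    (hC : Nat.card (Subgroup.centralizer ({w} : Set G)) = 4) (C : Subgroup G) (hCc : IsCyclic C)
    (h4 : 4 ∣ Nat.card C) : Nat.card C ≤ 4 := by
  obtain ⟨g, hg⟩ := hCc.exists_generator
  have hgo : orderOf g = Nat.card C := orderOf_eq_card_of_forall_mem_zpowers hg
  obtain ⟨m, hm⟩ := h4
  have hpos : 0 < Nat.card C := Nat.card_pos
  have hm0 : m ≠ 0 := by rintro rfl; omega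
  have hc : orderOf ((g ^ m : C) : G) = 4 := by
    rw [Subgroup.orderOf_coe, orderOf_pow_of_dvd hm0, hgo, hm]
    · exact Nat.mul_div_cancel _ (by omega)
    · rw [hgo, hm]; exact dvd_mul_left m 4
  have h1 := card_cent_eq P e w _ hw hc
  rw [hC] at h1
  rw [← h1]
  apply Subgroup.card_le_of_le
  intro x hx
  rw [Subgroup.mem_centralizer_singleton_iff]
  have := hCc.isMulCommutative
  exact congrArg Subtype.val (isMulCommutative_iff.mp this ⟨x, hx⟩ (g ^ m))

variable {G : Type u} [Group G] [Finite G] [IsSimpleGroup G]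

/-- The case of Sylow 2-subgroups `D₈`. -/
theorem of_d8 (w : G) (hw : orderOf w = 4)
    (hC : Nat.card (Subgroup.centralizer ({w} : Set G)) = 4) (P : Sylow 2 G)
    (hP : Nonempty ((P : Subgroup G) ≃* DihedralGroup 4)) :
    Nonempty (G ≃* alternatingGroup (Fin 6)) ∨ Nonempty (G ≃* alternatingGroup (Fin 7)) ∨
      (∃ (F : Type) (_ : Field F) (_ : Fintype F), Fintype.card F = 7 ∧
        Nonempty (G ≃* Matrix.ProjectiveSpecialLinearGroup (Fin 2) F)) := by
  obtain ⟨e⟩ := hP
  rcases Cfsg.Agent.ClassTwoFusion.Dihedral8.of_dihedral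
    (fun X _ _ _ S n hn hS => Cfsg.Agent.S0483.result S n hn hS) P ⟨e⟩ with
    ⟨F, _, _, hF, ⟨f⟩⟩ | h
  · have hodd : Odd (Fintype.card F) := by
      rw [Nat.odd_iff]; omega
    -- the pull back of a cyclic subgroup
    have key : ∀ C : Subgroup (Matrix.ProjectiveSpecialLinearGroup (Fin 2) F), IsCyclic C →
        4 ∣ Nat.card C → Nat.card C ≤ 4 := by
      intro C hCc h4
      let φ : C ≃* C.map f.symm.toMonoidHom :=
        C.equivMapOfInjective f.symm.toMonoidHom f.symm.injective
      have h1 : Nat.card (C.map f.symm.toMonoidHom) = Nat.card C :=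
        (Nat.card_congr φ.toEquiv).symm
      rw [← h1]
      apply card_le_of_cyclic P e w hw hC
      · exact isCyclic_of_surjective φ φ.surjective
      · rw [h1]; exact h4
    rcases hF with hF | hF
    · right; right
      obtain ⟨C, H, -, -, hCc, hCn, -⟩ :=
        Cfsg.Agent.ClassicalGeometry.PSLTorus.exists_psl_torus F
      have hgcd : Nat.gcd 2 (Fintype.card F - 1) = 2 := by
        apply Nat.gcd_eq_left
        omega
      rw [hgcd] at hCn
      have h := key C hCc (by omega)
      exact ⟨F, inferInstance, inferInstance, by omega, ⟨f⟩⟩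
    · left
      obtain ⟨C, hCc, hCd⟩ := Cfsg.Agent.Walter.MetaPSL.exists_split (F := F)
      have h16 : Fintype.card F % 16 = 9 := hF
      have hCpos : 0 < Nat.card C := Nat.card_pos
      have h8 : 8 ∣ Fintype.card F - 1 := by omega
      have h4 : 4 ∣ Nat.card C := by
        have : 8 ∣ 2 * Nat.card C := h8.trans hCd
        omega
      have h := key C hCc h4
      have hle := Nat.le_of_dvd (by omega) hCd
      have h9 : Fintype.card F = 9 := by omega
      have hcard := Cfsg.Agent.Walter.MetaPSL.card_mul (F := F) hodd f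
      rw [h9] at hcard
      exact Cfsg.Agent.S0497.result (by omega)
  · exact Or.inr (Or.inl h)

/-- Simple groups with an element of order 4 generating its own centralizer. -/
theorem of_four (hG : ¬ IsCyclic G) (w : G) (hw : orderOf w = 4)
    (hC : Nat.card (Subgroup.centralizer ({w} : Set G)) = 4) :
    Nonempty (G ≃* alternatingGroup (Fin 6)) ∨ Nonempty (G ≃* alternatingGroup (Fin 7)) ∨
      (∃ (F : Type) (_ : Field F) (_ : Fintype F), Fintype.card F = 7 ∧
        Nonempty (G ≃* Matrix.ProjectiveSpecialLinearGroup (Fin 2) F)) := by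
  classical
  have : Fact (Nat.Prime 2) := ⟨Nat.prime_two⟩
  have hz : Nat.card (Subgroup.zpowers w) = 4 := by rw [Nat.card_zpowers, hw]
  have hpg : IsPGroup 2 (Subgroup.zpowers w) := IsPGroup.of_card (n := 2) (by rw [hz]; norm_num)
  obtain ⟨P, hP⟩ := hpg.exists_le_sylow
  have hwP : w ∈ (P : Subgroup G) := hP (Subgroup.mem_zpowers w)
  have hle : Subgroup.zpowers w ≤ Subgroup.centralizer ({w} : Set G) := by
    rw [Subgroup.zpowers_le, Subgroup.mem_centralizer_singleton_iff]
  have heq : Subgroup.zpowers w = Subgroup.centralizer ({w} : Set G) :=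
    Subgroup.eq_of_le_of_card_ge hle (by rw [hC, hz])
  obtain ⟨n, hn⟩ := IsPGroup.iff_card.mp P.isPGroup'
  have hn2 : 2 ≤ n := by
    have h1 := Subgroup.card_le_of_le hP
    rw [hz, hn] at h1
    by_contra h
    have : 2 ^ n ≤ 2 ^ 1 := Nat.pow_le_pow_right (by norm_num) (by omega)
    omega
  rcases Nat.lt_or_ge n 3 with hn3 | hn3
  · exfalso
    have hn' : n = 2 := by omega
    subst hn'
    have hPw : Subgroup.zpowers w = (P : Subgroup G) :=
      Subgroup.eq_of_le_of_card_ge hP (by rw [hn, hz]; norm_num)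
    have hPc : IsCyclic (P : Subgroup G) := by rw [← hPw]; infer_instance
    have hx : orderOf (w ^ 2) = 2 := by
      rw [orderOf_pow_of_dvd (by norm_num) (by rw [hw]; norm_num), hw]
    obtain ⟨S⟩ : Nonempty (Sylow 2 ↥(Subgroup.centralizer ({w ^ 2} : Set G))) := inferInstance
    have hSc : IsCyclic (S : Subgroup ↥(Subgroup.centralizer ({w ^ 2} : Set G))) := by
      have h1 : IsPGroup 2 ((S : Subgroup ↥(Subgroup.centralizer ({w ^ 2} : Set G))).map
          (Subgroup.centralizer ({w ^ 2} : Set G)).subtype) := S.isPGroup'.map _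
      obtain ⟨Q, hQ⟩ := h1.exists_le_sylow
      have hQc : IsCyclic (Q : Subgroup G) :=
        isCyclic_of_surjective (P.equiv Q) (P.equiv Q).surjective
      let f : (S : Subgroup ↥(Subgroup.centralizer ({w ^ 2} : Set G))) →* (Q : Subgroup G) :=
        { toFun := fun s => ⟨(s : ↥(Subgroup.centralizer ({w ^ 2} : Set G))),
            hQ (Subgroup.mem_map_of_mem _ s.2)⟩
          map_one' := rfl
          map_mul' := fun _ _ => rfl }
      refine isCyclic_of_injective f ?_
      intro a b hab
      have h2 := congrArg Subtype.val hab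
      exact Subtype.ext (Subtype.ext h2)
    obtain ⟨H, hH⟩ := Cfsg.Agent.S0220.result (w ^ 2) hx S hSc
    exact no_index_two hG H hH
  · have hw' : orderOf (⟨w, hwP⟩ : (P : Subgroup G)) = 4 := by rw [Subgroup.orderOf_mk, hw]
    rcases two_group n hn3 hn ⟨w, hwP⟩ hw' (by
      intro x hx
      have h1 : (x : G) ∈ Subgroup.zpowers w := by
        rw [heq, Subgroup.mem_centralizer_singleton_iff]
        exact congrArg Subtype.val hx
      obtain ⟨k, hk⟩ := Subgroup.mem_zpowers_iff.mp h1
      exact Subgroup.mem_zpowers_iff.mpr ⟨k, Subtype.ext (by simpa using hk)⟩) with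
      ⟨-, h⟩ | ⟨z, hz, hu⟩ | h
    · exact of_d8 w hw hC P h
    · exact (not_unique hG P z hz hu).elim
    · exact (not_qd hG w hw hC P hwP h).elim

/-- Simple groups with an element whose centralizer has order 1, 2 or 4. -/
theorem of_le_four (hG : ¬ IsCyclic G) (w : G)
    (hw : Nat.card (Subgroup.centralizer ({w} : Set G)) ≤ 4)
    (hw3 : Nat.card (Subgroup.centralizer ({w} : Set G)) ≠ 3) :
    Nonempty (G ≃* ↥(alternatingGroup (Fin 5))) ∨ Nonempty (G ≃* ↥(alternatingGroup (Fin 6))) ∨
      Nonempty (G ≃* ↥(alternatingGroup (Fin 7))) ∨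
      (∃ (F : Type) (_ : Field F) (_ : Fintype F), Fintype.card F = 7 ∧
        Nonempty (G ≃* Matrix.ProjectiveSpecialLinearGroup (Fin 2) F)) := by
  classical
  have : Fact (Nat.Prime 2) := ⟨Nat.prime_two⟩
  set C := Subgroup.centralizer ({w} : Set G) with hCdef
  have hwC : w ∈ C := by rw [hCdef, Subgroup.mem_centralizer_singleton_iff]
  have hpos : 0 < Nat.card C := Nat.card_pos
  have hCp : IsPGroup 2 C := by
    have : Nat.card C = 2 ^ 0 ∨ Nat.card C = 2 ^ 1 ∨ Nat.card C = 2 ^ 2 := by omega
    rcases this with h | h | h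
    · exact IsPGroup.of_card h
    · exact IsPGroup.of_card h
    · exact IsPGroup.of_card h
  have hdvd : orderOf w ∣ Nat.card C := Subgroup.orderOf_dvd_natCard _ hwC
  have hopos : 0 < orderOf w := orderOf_pos w
  have hocases : orderOf w = 1 ∨ orderOf w = 2 ∨ orderOf w = 4 := by
    have h1 : Nat.card C = 1 ∨ Nat.card C = 2 ∨ Nat.card C = 4 := by omega
    have hle := Nat.le_of_dvd hpos hdvd
    rcases h1 with h | h | h
    · rw [h] at hle; omega
    · rw [h] at hle; omega
    · rw [h] at hle hdvd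
      have : orderOf w ≠ 3 := by intro h3; rw [h3] at hdvd; omega
      omega
  rcases hocases with ho | ho | ho
  · exfalso
    rw [orderOf_eq_one_iff] at ho
    apply hG
    apply isCyclic_of_two_group
    have htop : C = ⊤ := by
      rw [hCdef, ho]
      ext x
      rw [Subgroup.mem_centralizer_singleton_iff]
      simp
    rw [htop] at hCp
    exact hCp.of_equiv Subgroup.topEquiv
  · obtain ⟨S⟩ : Nonempty (Sylow 2 ↥C) := inferInstance
    have hnc : ¬ IsCyclic C := by
      intro hc
      have hSc : IsCyclic (S : Subgroup ↥C) := inferInstance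
      obtain ⟨H, hH⟩ := Cfsg.Agent.S0220.result w ho S hSc
      exact no_index_two hG H hH
    have h4 : Nat.card C = 4 := by
      by_contra h
      have h1 : Nat.card C = 1 ∨ Nat.card C = 2 := by omega
      rcases h1 with h1 | h1
      · rw [h1] at hdvd
        rw [ho] at hdvd
        omega
      · exact hnc (isCyclic_of_prime_card h1)
    have hexp : ∀ x : C, x ^ 2 = 1 := by
      intro x
      have h1 : orderOf x ∣ 4 := by rw [← h4]; exact orderOf_dvd_natCard x
      have h2 : orderOf x ≠ 4 := by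
        intro h2
        exact hnc (isCyclic_of_orderOf_eq_card x (by rw [h2, h4]))
      rw [← orderOf_dvd_iff_pow_eq_one]
      have h3 : orderOf x ≤ 4 := Nat.le_of_dvd (by norm_num) h1
      have h5 : 0 < orderOf x := orderOf_pos x
      interval_cases orderOf x <;> omega
    left
    refine Cfsg.Agent.S3278.result w ho C le_rfl ?_ ?_ ?_
    · refine ⟨h4, ?_⟩
      have hne : Nontrivial C := Finite.one_lt_card_iff_nontrivial.mp (by omega)
      have h1 : Monoid.exponent C ∣ 2 := Monoid.exponent_dvd_of_forall_pow_eq_one hexp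
      rcases (Nat.dvd_prime Nat.prime_two).mp h1 with h2 | h2
      · exfalso
        rw [Monoid.exp_eq_one_iff] at h2
        exact not_subsingleton C h2
      · exact h2
    · rw [Subgroup.relIndex_self]; norm_num
    · rw [Subgroup.subgroupOf_self]; infer_instance
  · right
    refine of_four hG w ho ?_
    have := Nat.le_of_dvd hpos hdvd
    rw [ho] at this
    exact le_antisymm hw this

end Cfsg.Agent.H328.SelfFour
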