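import Cfsg.Agent.H909.Sp4List
import Cfsg.Agent.H909.IsoPair
import Cfsg.Agent.H909.FieldGen
import Cfsg.Agent.H950.Quad

/-!
# `Sp₄(q)`: the stabiliser of two totally isotropic planes, and traces (helper328, for S5786)

`card_T3`, `T3_trace`, `T5_trace`.
-/

set_option autoImplicit false

namespace Cfsg.Agent.H328.Sp4TI

open Cfsg Cfsg.Geo Matrix Module
open Cfsg.Agent.H909 Cfsg.Agent.H909.Sp4List
open Cfsg.Agent.ClassicalGeometry.SympBasic

universe u

variable {F : Type u} [Field F]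

section Iso

/-- `A ↦ diag(A, A⁻ᵀ)` -/
def dl : GL (Fin 2) F →* GL I4 F where
  toFun A := ⟨fromBlocks A.1 0 0 (A⁻¹).1ᵀ, fromBlocks (A⁻¹).1 0 0 A.1ᵀ, by
    rw [fromBlocks_multiply, ← fromBlocks_one, ← transpose_mul]
    congr 1 <;> simp, by
    rw [fromBlocks_multiply, ← fromBlocks_one, ← transpose_mul]
    congr 1 <;> simp⟩
  map_one' := by
    apply Units.ext
    change fromBlocks (1 : GL (Fin 2) F).1 0 0 ((1 : GL (Fin 2) F)⁻¹).1ᵀ = 1
    rw [inv_one, Units.val_one, transpose_one, fromBlocks_one]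
  map_mul' A B := by
    apply Units.ext
    change fromBlocks (A * B).1 0 0 ((A * B)⁻¹).1ᵀ = fromBlocks A.1 0 0 (A⁻¹).1ᵀ * fromBlocks B.1 0 0 (B⁻¹).1ᵀ
    rw [fromBlocks_multiply, _root_.mul_inv_rev, Units.val_mul, Units.val_mul, transpose_mul]
    simp only [mul_zero, zero_mul, add_zero, zero_add]

theorem dl_val (A : GL (Fin 2) F) : (dl A : Matrix I4 I4 F) = fromBlocks A.1 0 0 (A⁻¹).1ᵀ := rfl

theorem dl_mem (A : GL (Fin 2) F) : dl A ∈ spGL 2 F := by
  rw [mem_spGL_iff_transpose, dl_val, fromBlocks_transpose, Matrix.J, fromBlocks_multiply, fromBlocks_multiply]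
  have h1 : (A⁻¹).1 * A.1 = 1 := by rw [← Units.val_mul, inv_mul_cancel, Units.val_one]
  have h2 : A.1ᵀ * (A⁻¹).1ᵀ = 1 := by rw [← transpose_mul, h1, transpose_one]
  rw [fromBlocks_inj]
  simp only [transpose_zero, transpose_transpose, mul_zero, zero_mul, zero_add, add_zero, mul_neg, mul_one, neg_mul,
    h1, h2, neg_zero, and_self]

/-- the standard swap -/
def jg (F : Type u) [Field F] : GL I4 F := ⟨Matrix.J (Fin 2) F, -Matrix.J (Fin 2) F, by
    rw [mul_neg, Matrix.J_squared, neg_neg], by rw [neg_mul, Matrix.J_squared, neg_neg]⟩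

theorem jg_val : (jg F : Matrix I4 I4 F) = fromBlocks 0 (-1) 1 0 := rfl
theorem jg_inv_val : ((jg F)⁻¹ : GL I4 F).1 = fromBlocks 0 1 (-1) 0 := by
  change -Matrix.J (Fin 2) F = _
  rw [Matrix.J, fromBlocks_neg]
  simp

theorem jg_mem : jg F ∈ spGL 2 F := by
  rw [mem_spGL_iff_transpose, jg_val, fromBlocks_transpose, Matrix.J, fromBlocks_multiply, fromBlocks_multiply]
  congr 1 <;> simp

/-- an isometry with zero off-diagonal blocks -/
theorem exists_dl {h : GL I4 F} (hh : h ∈ spGL 2 F) (h1 : ∀ i j, h.1 (Sum.inr i) (Sum.inl j) = 0)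
    (h2 : ∀ i j, h.1 (Sum.inl i) (Sum.inr j) = 0) : ∃ A : GL (Fin 2) F, h = dl A := by
  have hb : h.1 = fromBlocks h.1.toBlocks₁₁ 0 0 h.1.toBlocks₂₂ := by
    conv_lhs => rw [← fromBlocks_toBlocks h.1]
    congr 1
    · ext i j; exact h2 i j
    · ext i j; exact h1 i j
  rw [mem_spGL_iff_transpose] at hh
  rw [hb, fromBlocks_transpose, Matrix.J, fromBlocks_multiply, fromBlocks_multiply, fromBlocks_inj] at hh
  obtain ⟨-, h12, -, -⟩ := hh
  simp only [transpose_zero, mul_zero, zero_add, add_zero, mul_neg, mul_one, neg_mul, neg_inj] at h12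
  -- `A₁ᵀ A₂ = 1`
  have h3 : h.1.toBlocks₂₂ᵀ * h.1.toBlocks₁₁ = 1 := by
    rw [← transpose_inj, transpose_mul, transpose_transpose, transpose_one]
    exact h12
  have h4 : h.1.toBlocks₁₁ * h.1.toBlocks₂₂ᵀ = 1 := mul_eq_one_comm.1 h3
  refine ⟨⟨h.1.toBlocks₁₁, h.1.toBlocks₂₂ᵀ, h4, h3⟩, ?_⟩
  apply Units.ext
  rw [dl_val]
  change h.1 = fromBlocks h.1.toBlocks₁₁ 0 0 h.1.toBlocks₂₂ᵀᵀ
  rw [transpose_transpose]
  exact hb

theorem z1 {M : Matrix I4 I4 F} (h : ∀ i j, M (Sum.inr i) (Sum.inl j) = 0) {w : I4 → F} (hw : ∀ i, w (Sum.inr i) = 0) :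
    ∀ i, (M *ᵥ w) (Sum.inr i) = 0 := by
  intro i
  simp [mulVec, dotProduct, Fintype.sum_sum_type, h, hw]

theorem z2 {M : Matrix I4 I4 F} (h : ∀ i j, M (Sum.inl i) (Sum.inr j) = 0) {w : I4 → F} (hw : ∀ i, w (Sum.inl i) = 0) :
    ∀ i, (M *ᵥ w) (Sum.inl i) = 0 := by
  intro i
  simp [mulVec, dotProduct, Fintype.sum_sum_type, h, hw]

theorem z3 {M : Matrix I4 I4 F} (h : ∀ i j, M (Sum.inl i) (Sum.inl j) = 0) {w : I4 → F} (hw : ∀ i, w (Sum.inr i) = 0) :
    ∀ i, (M *ᵥ w) (Sum.inl i) = 0 := by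
  intro i
  simp [mulVec, dotProduct, Fintype.sum_sum_type, h, hw]

theorem z4 {M : Matrix I4 I4 F} (h : ∀ i j, M (Sum.inr i) (Sum.inr j) = 0) {w : I4 → F} (hw : ∀ i, w (Sum.inl i) = 0) :
    ∀ i, (M *ᵥ w) (Sum.inr i) = 0 := by
  intro i
  simp [mulVec, dotProduct, Fintype.sum_sum_type, h, hw]

variable {D : Fin 2 → Submodule F (I4 → F)}

/-- the membership in the two planes, in adapted coordinates -/
theorem exists_coord (hD : IsMDecomposition 2 D) (hs : ∀ i, IsTotallySingularFor (sympForm 2 F) (D i)) :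
    ∃ P : GL I4 F, P ∈ spGL 2 F ∧
      (∀ v, v ∈ D 0 ↔ ∀ i, ((P⁻¹ : GL I4 F).1 *ᵥ v) (Sum.inr i) = 0) ∧
      (∀ v, v ∈ D 1 ↔ ∀ i, ((P⁻¹ : GL I4 F).1 *ᵥ v) (Sum.inl i) = 0) := by
  obtain ⟨P, hP, h0, h1⟩ := exists_adapted_iso hD hs
  have hinv : ∀ v, P.1 *ᵥ ((P⁻¹ : GL I4 F).1 *ᵥ v) = v := fun v => by
    rw [Matrix.mulVec_mulVec, ← Units.val_mul, mul_inv_cancel, Units.val_one, Matrix.one_mulVec]
  have hsum : ∀ w : I4 → F, w = (∑ i : Fin 2, w (Sum.inl i) • Pi.single (Sum.inl i) (1 : F)) +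
      ∑ i : Fin 2, w (Sum.inr i) • Pi.single (Sum.inr i) (1 : F) := by
    intro w
    ext (i | i) <;> fin_cases i <;> simp [Fin.sum_univ_two]
  have hspan : ∀ w : I4 → F, P.1 *ᵥ w = (∑ i : Fin 2, w (Sum.inl i) • (P.1 *ᵥ Pi.single (Sum.inl i) (1 : F))) +
      ∑ i : Fin 2, w (Sum.inr i) • (P.1 *ᵥ Pi.single (Sum.inr i) (1 : F)) := by
    intro w
    conv_lhs => rw [hsum w]
    rw [Matrix.mulVec_add, Matrix.mulVec_sum, Matrix.mulVec_sum]
    simp only [Matrix.mulVec_smul]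
  have hdis : D 0 ⊓ D 1 = ⊥ := (hD.indep.pairwiseDisjoint (show (0 : Fin 2) ≠ 1 by decide)).eq_bot
  have hz : ∀ x ∈ D 0, ∀ y ∈ D 1, x = y → y = 0 := by
    intro x hx y hy hxy
    have : y ∈ D 0 ⊓ D 1 := ⟨hxy ▸ hx, hy⟩
    rwa [hdis, Submodule.mem_bot] at this
  have hPinj : ∀ w : I4 → F, P.1 *ᵥ w = 0 → w = 0 := by
    intro w hw
    have := congrArg (fun x => (P⁻¹ : GL I4 F).1 *ᵥ x) hw
    simp only [Matrix.mulVec_mulVec, ← Units.val_mul, inv_mul_cancel, Units.val_one, Matrix.one_mulVec,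
      Matrix.mulVec_zero] at this
    exact this
  refine ⟨P, hP, fun v => ⟨fun hv => ?_, fun hv => ?_⟩, fun v => ⟨fun hv => ?_, fun hv => ?_⟩⟩
  · set w := (P⁻¹ : GL I4 F).1 *ᵥ v with hw
    have h2 := hspan w
    rw [hw, hinv, ← hw] at h2
    have h3 : (∑ i : Fin 2, w (Sum.inr i) • (P.1 *ᵥ Pi.single (Sum.inr i) (1 : F))) = 0 := by
      refine hz (v - ∑ i : Fin 2, w (Sum.inl i) • (P.1 *ᵥ Pi.single (Sum.inl i) (1 : F))) ?_ _ ?_ ?_
      · exact sub_mem hv (Submodule.sum_mem _ fun i _ => Submodule.smul_mem _ _ (h0 i))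
      · exact Submodule.sum_mem _ fun i _ => Submodule.smul_mem _ _ (h1 i)
      · rw [sub_eq_iff_eq_add, add_comm]; exact h2
    have h4 : P.1 *ᵥ (∑ i : Fin 2, w (Sum.inr i) • Pi.single (Sum.inr i) (1 : F)) = 0 := by
      rw [Matrix.mulVec_sum]
      simp only [Matrix.mulVec_smul]
      exact h3
    have h5 := hPinj _ h4
    intro i
    have h6 := congrFun h5 (Sum.inr i)
    fin_cases i <;> simpa [Fin.sum_univ_two, Pi.single_apply] using h6
  · rw [← hinv v, hspan]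
    refine add_mem (Submodule.sum_mem _ fun i _ => Submodule.smul_mem _ _ (h0 i)) ?_
    simp only [hv, zero_smul, Finset.sum_const_zero]
    exact zero_mem _
  · set w := (P⁻¹ : GL I4 F).1 *ᵥ v with hw
    have h2 := hspan w
    rw [hw, hinv, ← hw] at h2
    have h3 : (∑ i : Fin 2, w (Sum.inl i) • (P.1 *ᵥ Pi.single (Sum.inl i) (1 : F))) = 0 := by
      have h7 := hz _ (Submodule.sum_mem (t := Finset.univ) _ fun i _ => Submodule.smul_mem (D 0) (w (Sum.inl i)) (h0 i))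
        (v - ∑ i : Fin 2, w (Sum.inr i) • (P.1 *ᵥ Pi.single (Sum.inr i) (1 : F))) ?_ ?_
      · rw [sub_eq_zero] at h7
        rw [h7] at h2
        exact add_eq_right.1 h2.symm
      · exact sub_mem hv (Submodule.sum_mem _ fun i _ => Submodule.smul_mem _ _ (h1 i))
      · rw [eq_sub_iff_add_eq]; exact h2.symm
    have h4 : P.1 *ᵥ (∑ i : Fin 2, w (Sum.inl i) • Pi.single (Sum.inl i) (1 : F)) = 0 := by
      rw [Matrix.mulVec_sum]
      simp only [Matrix.mulVec_smul]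
      exact h3
    have h5 := hPinj _ h4
    intro i
    have h6 := congrFun h5 (Sum.inl i)
    fin_cases i <;> simpa [Fin.sum_univ_two, Pi.single_apply] using h6
  · rw [← hinv v, hspan]
    refine add_mem ?_ (Submodule.sum_mem _ fun i _ => Submodule.smul_mem _ _ (h1 i))
    simp only [hv, zero_smul, Finset.sum_const_zero]
    exact zero_mem _

theorem two : ∀ x : Fin 2, x = 0 ∨ x = 1 := by decide

/-- The stabiliser of the two planes: `GL₂(q).2`. -/
theorem exists_bij (hD : IsMDecomposition 2 D) (hs : ∀ i, IsTotallySingularFor (sympForm 2 F) (D i)) :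
    ∃ P : GL I4 F, P ∈ spGL 2 F ∧ (∀ A, P * dl A * P⁻¹ ∈ decompositionStabilizer D ⊓ spGL 2 F) ∧
      (∀ A, P * (jg F * dl A) * P⁻¹ ∈ decompositionStabilizer D ⊓ spGL 2 F) ∧
      ∀ g ∈ decompositionStabilizer D ⊓ spGL 2 F, (∃ A, g = P * dl A * P⁻¹) ∨ ∃ A, g = P * (jg F * dl A) * P⁻¹ := by
  obtain ⟨P, hP, h0, h1⟩ := exists_coord hD hs
  have hinv : ∀ v, P.1 *ᵥ ((P⁻¹ : GL I4 F).1 *ᵥ v) = v := fun v => by
    rw [Matrix.mulVec_mulVec, ← Units.val_mul, mul_inv_cancel, Units.val_one, Matrix.one_mulVec]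
  have hinv' : ∀ v, (P⁻¹ : GL I4 F).1 *ᵥ (P.1 *ᵥ v) = v := fun v => by
    rw [Matrix.mulVec_mulVec, ← Units.val_mul, inv_mul_cancel, Units.val_one, Matrix.one_mulVec]
  have hconj : ∀ (g : GL I4 F) v, (P⁻¹ : GL I4 F).1 *ᵥ ((P * g * P⁻¹ : GL I4 F).1 *ᵥ v) =
      g.1 *ᵥ ((P⁻¹ : GL I4 F).1 *ᵥ v) := by
    intro g v
    rw [Units.val_mul, Units.val_mul, ← Matrix.mulVec_mulVec, ← Matrix.mulVec_mulVec, hinv']
  -- membership
  have hmem : ∀ g : GL I4 F, ∀ σ : Equiv.Perm (Fin 2), (∀ i, ∀ v ∈ D i, g.1 *ᵥ v ∈ D (σ i)) → g ∈ decompositionStabilizer D := by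
    intro g σ h
    refine ⟨σ, fun i => ?_⟩
    have hle : (D i).map (Matrix.toLin' g.1) ≤ D (σ i) := by
      rintro _ ⟨v, hv, rfl⟩
      exact h i v hv
    refine Submodule.eq_of_le_of_finrank_eq hle ?_
    have hinj : Function.Injective (Matrix.toLin' g.1) := by
      intro x y hxy
      have := congrArg (fun z => (g⁻¹ : GL I4 F).1 *ᵥ z) (show g.1 *ᵥ x = g.1 *ᵥ y from hxy)
      simp only [Matrix.mulVec_mulVec, ← Units.val_mul, inv_mul_cancel, Units.val_one, Matrix.one_mulVec] at this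
      exact this
    rw [← (Submodule.equivMapOfInjective _ hinj (D i)).finrank_eq, hD.finrank_eq, hD.finrank_eq]
  have hmemP : ∀ g : GL I4 F, g ∈ spGL 2 F → P * g * P⁻¹ ∈ spGL 2 F := fun g hg =>
    mul_mem (mul_mem hP hg) (inv_mem hP)
  refine ⟨P, hP, fun A => ⟨hmem _ 1 fun i v hv => ?_, hmemP _ (dl_mem A)⟩,
    fun A => ⟨hmem _ (Equiv.swap 0 1) fun i v hv => ?_, hmemP _ (mul_mem jg_mem (dl_mem A))⟩, fun g hg => ?_⟩
  · fin_cases i
    · refine (h0 _).2 ?_
      rw [hconj]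
      exact z1 (fun _ _ => rfl) ((h0 v).1 hv)
    · refine (h1 _).2 ?_
      rw [hconj]
      exact z2 (fun _ _ => rfl) ((h1 v).1 hv)
  · fin_cases i
    · change _ ∈ D 1
      refine (h1 _).2 ?_
      rw [hconj, Units.val_mul, ← Matrix.mulVec_mulVec]
      exact z3 (M := (jg F).1) (fun _ _ => rfl) (z1 (fun _ _ => rfl) ((h0 v).1 hv))
    · change _ ∈ D 0
      refine (h0 _).2 ?_
      rw [hconj, Units.val_mul, ← Matrix.mulVec_mulVec]
      exact z4 (M := (jg F).1) (fun _ _ => rfl) (z2 (fun _ _ => rfl) ((h1 v).1 hv))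
  · obtain ⟨⟨σ, hσ⟩, hgs⟩ := hg
    -- coordinates of the columns
    have hcol : ∀ (h : GL I4 F) a b, h.1 b a = (h.1 *ᵥ Pi.single a 1) b := by
      intro h a b
      rw [Matrix.mulVec_single_one]
      rfl
    have hl : ∀ j, P.1 *ᵥ Pi.single (Sum.inl j) (1 : F) ∈ D 0 := fun j => (h0 _).2 fun i => by
      rw [hinv']; simp
    have hr : ∀ j, P.1 *ᵥ Pi.single (Sum.inr j) (1 : F) ∈ D 1 := fun j => (h1 _).2 fun i => by
      rw [hinv']; simp
    have hg' : P⁻¹ * g * P ∈ spGL 2 F := mul_mem (mul_mem (inv_mem hP) hgs) hP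
    have hval : ∀ v, (P⁻¹ * g * P : GL I4 F).1 *ᵥ v = (P⁻¹ : GL I4 F).1 *ᵥ (g.1 *ᵥ (P.1 *ᵥ v)) := fun v => by
      rw [Units.val_mul, Units.val_mul, ← Matrix.mulVec_mulVec, ← Matrix.mulVec_mulVec]
    have hmap : ∀ i v, v ∈ D i → g.1 *ᵥ v ∈ D (σ i) := by
      intro i v hv
      rw [← hσ i]
      exact ⟨v, hv, rfl⟩
    by_cases h00 : σ 0 = 0
    · left
      have h11 : σ 1 = 1 := by
        by_contra hne
        have : σ 1 = 0 := by
          have := two (σ 1)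
          tauto
        exact absurd (σ.injective (h00.trans this.symm)) (by decide)
      obtain ⟨A, hA⟩ := exists_dl hg' (fun i j => by
        rw [hcol, hval]
        exact (h0 _).1 (h00 ▸ hmap 0 _ (hl j)) i) (fun i j => by
        rw [hcol, hval]
        exact (h1 _).1 (h11 ▸ hmap 1 _ (hr j)) i)
      exact ⟨A, by rw [← hA]; group⟩
    · right
      have h01 : σ 0 = 1 := by
        have := two (σ 0)
        tauto
      have h10 : σ 1 = 0 := by
        by_contra hne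
        have : σ 1 = 1 := by
          have := two (σ 1)
          tauto
        exact absurd (σ.injective (h01.trans this.symm)) (by decide)
      obtain ⟨A, hA⟩ := exists_dl (h := (jg F)⁻¹ * (P⁻¹ * g * P)) (mul_mem (inv_mem jg_mem) hg') (fun i j => by
        rw [hcol, Units.val_mul, ← Matrix.mulVec_mulVec, hval]
        refine z4 (fun i j => ?_) ((h1 _).1 (h01 ▸ hmap 0 _ (hl j))) i
        rw [jg_inv_val]; rfl) (fun i j => by
        rw [hcol, Units.val_mul, ← Matrix.mulVec_mulVec, hval]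
        refine z3 (fun i j => ?_) ((h0 _).1 (h10 ▸ hmap 1 _ (hr j))) i
        rw [jg_inv_val]; rfl)
      exact ⟨A, by rw [← hA]; group⟩

theorem dl_injective : Function.Injective (dl (F := F)) := by
  intro A B h
  apply Units.ext
  have h1 := congrArg (fun g : GL I4 F => g.1.toBlocks₁₁) h
  exact h1

theorem dl_ne (A B : GL (Fin 2) F) : dl A ≠ jg F * dl B := by
  intro h
  have h1 := congrArg (fun g : GL I4 F => g.1.toBlocks₁₁) h
  simp only [Units.val_mul, dl_val, jg_val, fromBlocks_multiply, toBlocks_fromBlocks₁₁] at h1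
  simp only [zero_mul, mul_zero, add_zero] at h1
  exact A.ne_zero h1

/-- **The order of the stabiliser of two totally isotropic planes.** -/
theorem card_T3 [Fintype F] (_h2 : (2 : F) ≠ 0) {D : Fin 2 → Submodule F (I4 → F)} (hD : IsMDecomposition 2 D)
    (hs : ∀ i, IsTotallySingularFor (sympForm 2 F) (D i)) :
    Nat.card ↥(decompositionStabilizer D ⊓ spGL 2 F) = 2 * (Nat.card F * (Nat.card F - 1) * (Nat.card F ^ 2 - 1)) := by
  classical
  obtain ⟨P, hP, h0, h1, h2⟩ := exists_bij hD hs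
  let f : GL (Fin 2) F ⊕ GL (Fin 2) F → ↥(decompositionStabilizer D ⊓ spGL 2 F) :=
    Sum.elim (fun A => ⟨_, h0 A⟩) (fun A => ⟨_, h1 A⟩)
  have hf : Function.Bijective f := by
    constructor
    · rintro (A | A) (B | B) h
      · have h3 : P * dl A * P⁻¹ = P * dl B * P⁻¹ := congrArg Subtype.val h
        rw [dl_injective (mul_left_cancel (mul_right_cancel h3))]
      · have h3 : P * dl A * P⁻¹ = P * (jg F * dl B) * P⁻¹ := congrArg Subtype.val h
        exact absurd (mul_left_cancel (mul_right_cancel h3)) (dl_ne A B)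
      · have h3 : P * (jg F * dl A) * P⁻¹ = P * dl B * P⁻¹ := congrArg Subtype.val h
        exact absurd (mul_left_cancel (mul_right_cancel h3)).symm (dl_ne B A)
      · have h3 : P * (jg F * dl A) * P⁻¹ = P * (jg F * dl B) * P⁻¹ := congrArg Subtype.val h
        rw [dl_injective (mul_left_cancel (mul_left_cancel (mul_right_cancel h3)))]
    · rintro ⟨g, hg⟩
      rcases h2 g hg with ⟨A, hA⟩ | ⟨A, hA⟩
      · exact ⟨Sum.inl A, Subtype.ext hA.symm⟩
      · exact ⟨Sum.inr A, Subtype.ext hA.symm⟩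
  rw [← Nat.card_congr (Equiv.ofBijective f hf), Nat.card_sum, Matrix.card_GL_field, Fin.prod_univ_two,
    Nat.card_eq_fintype_card]
  have hq : 1 ≤ Fintype.card F := Fintype.card_pos
  obtain ⟨k, hk⟩ := Nat.exists_eq_add_of_le hq
  rw [hk]
  have e1 : (1 + k) ^ 2 - (1 + k) ^ ((0 : Fin 2) : ℕ) = k * (k + 2) := by
    rw [Fin.val_zero, pow_zero]
    have : (1 + k) ^ 2 = k * (k + 2) + 1 := by ring
    omega
  have e2 : (1 + k) ^ 2 - (1 + k) ^ ((1 : Fin 2) : ℕ) = k * (k + 1) := by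
    rw [Fin.val_one, pow_one]
    have : (1 + k) ^ 2 = k * (k + 1) + (1 + k) := by ring
    omega
  have e3 : (1 + k) ^ 2 - 1 = k * (k + 2) := by
    have : (1 + k) ^ 2 = k * (k + 2) + 1 := by ring
    omega
  rw [e1, e2, e3, Nat.add_sub_cancel_left]
  ring

theorem trace_blocks (A B C E : Matrix (Fin 2) (Fin 2) F) : (fromBlocks A B C E).trace = A.trace + E.trace := by
  simp [Matrix.trace, Fintype.sum_sum_type]

theorem trace_conj (P M : GL I4 F) : (P * M * P⁻¹ : GL I4 F).1.trace = M.1.trace := by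
  rw [Units.val_mul, Units.val_mul, Matrix.trace_mul_cycle, ← Units.val_mul, inv_mul_cancel, Units.val_one, one_mul]

/-- every element of `F` is a trace -/
theorem T3_trace {D : Fin 2 → Submodule F (I4 → F)} (h2 : (2 : F) ≠ 0) (hD : IsMDecomposition 2 D)
    (hs : ∀ i, IsTotallySingularFor (sympForm 2 F) (D i)) (t : F) :
    ∃ g ∈ decompositionStabilizer D ⊓ spGL 2 F, (g : Matrix I4 I4 F).trace = t := by
  obtain ⟨P, hP, h0, -, -⟩ := exists_bij hD hs
  let A : GL (Fin 2) F := ⟨!![t / 2, -1; 1, 0], !![0, 1; -1, t / 2], by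
    ext i j
    fin_cases i <;> fin_cases j <;> simp [Matrix.mul_apply, Fin.sum_univ_two], by
    ext i j
    fin_cases i <;> fin_cases j <;> simp [Matrix.mul_apply, Fin.sum_univ_two]⟩
  refine ⟨_, h0 A, ?_⟩
  rw [trace_conj, dl_val, trace_blocks, trace_transpose]
  change trace !![t / 2, -1; 1, 0] + trace !![0, 1; -1, t / 2] = t
  rw [trace_fin_two, trace_fin_two]
  have h : t / 2 + t / 2 = t := by field_simp; ring
  simpa using h

end Iso

section Skew

variable {s : Matrix I4 I4 F} {b : F}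

/-- `s` in adapted coordinates -/
def sk (b : F) : Matrix I4 I4 F := fromBlocks !![0, -1; -b, 0] 0 0 !![0, b; 1, 0]

/-- A hyperbolic basis for a skew element of non-square square. -/
theorem exists_adapted_skew [Finite F] (h2 : (2 : F) ≠ 0) (hs2 : s * s = b • 1) (hb : ¬ IsSquare b)
    (hskew : ∀ u v, sympForm 2 F (s *ᵥ u) v = - sympForm 2 F u (s *ᵥ v)) :
    ∃ P : GL I4 F, P ∈ spGL 2 F ∧ s * (P : Matrix I4 I4 F) = (P : Matrix I4 I4 F) * sk b := by
  have hb0 : b ≠ 0 := fun h => hb ⟨0, by rw [h, mul_zero]⟩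
  have hss : ∀ v, s *ᵥ (s *ᵥ v) = b • v := fun v => by
    rw [Matrix.mulVec_mulVec, hs2, Matrix.smul_mulVec, Matrix.one_mulVec]
  have hpr : ∀ u v, sympForm 2 F (s *ᵥ u) (s *ᵥ v) = -b * sympForm 2 F u v := by
    intro u v
    rw [hskew, hss, sympForm_smul_right]
    ring
  -- an isotropic vector
  obtain ⟨u, hu0, hu⟩ : ∃ u : I4 → F, u ≠ 0 ∧ sympForm 2 F (s *ᵥ u) u = 0 := by
    obtain ⟨u, hu, h⟩ := H950.exists_common_isotropic (K := F) (A := I4 → F) (ι := Unit)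
      (fun _ => (sympBilin 2 F).comp (Matrix.toLin' s)) (by
        rw [Module.finrank_fintype_fun_eq_card]
        decide)
    exact ⟨u, hu, h ()⟩
  obtain ⟨w, hw, -⟩ := exists_both_ne_zero hu0 hu0
  set p := sympForm 2 F u w with hp
  set r := sympForm 2 F (s *ᵥ u) w with hr
  have hrr : sympForm 2 F u (s *ᵥ w) = -r := by rw [hr, hskew, neg_neg]
  have hD : r ^ 2 - b * p ^ 2 ≠ 0 := by
    intro h
    apply hb
    refine ⟨r / p, ?_⟩
    field_simp
    linear_combination -h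
  set Δ := r ^ 2 - b * p ^ 2 with hΔ
  obtain ⟨v0, hv1, hv2⟩ : ∃ v0 : I4 → F, sympForm 2 F u v0 = 1 ∧ sympForm 2 F (s *ᵥ u) v0 = 0 := by
    refine ⟨(-(b * p) / Δ) • w + (-r / Δ) • (s *ᵥ w), ?_, ?_⟩
    · rw [sympForm_add_right, sympForm_smul_right, sympForm_smul_right, ← hp, hrr]
      field_simp
      rw [hΔ]; ring
    · rw [sympForm_add_right, sympForm_smul_right, sympForm_smul_right, ← hr, hpr, ← hp]
      field_simp
      ring
  obtain ⟨v, hv3, hv4, hv5⟩ : ∃ v : I4 → F, sympForm 2 F u v = 1 ∧ sympForm 2 F (s *ᵥ u) v = 0 ∧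
      sympForm 2 F (s *ᵥ v) v = 0 := by
    have h6 : sympForm 2 F (s *ᵥ v0) (s *ᵥ u) = b := by
      rw [hpr, sympForm_swap, hv1]; ring
    have h7 : sympForm 2 F u (s *ᵥ u) = 0 := by rw [← neg_eq_zero, ← hskew, hu]
    refine ⟨v0 + (-(sympForm 2 F (s *ᵥ v0) v0) / (2 * b)) • (s *ᵥ u), ?_, ?_, ?_⟩
    · rw [sympForm_add_right, sympForm_smul_right, hv1, h7, mul_zero, add_zero]
    · rw [sympForm_add_right, sympForm_smul_right, hv2, sympForm_self, mul_zero, add_zero]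
    · generalize hE : sympForm 2 F (s *ᵥ v0) v0 = e
      rw [Matrix.mulVec_add, Matrix.mulVec_smul, hss, sympForm_add_left, sympForm_add_right, sympForm_smul_left,
        sympForm_smul_left, sympForm_smul_right, sympForm_add_right, sympForm_smul_right, hE, h6, hv1, h7]
      field_simp
      ring
  -- the family
  have hsv : sympForm 2 F u (s *ᵥ v) = 0 := by rw [← neg_eq_zero, ← hskew, hv4]
  have hsu : sympForm 2 F u (s *ᵥ u) = 0 := by rw [← neg_eq_zero, ← hskew, hu]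
  have hvv : sympForm 2 F v (s *ᵥ v) = 0 := by rw [← neg_eq_zero, ← hskew, hv5]
  have hvu : sympForm 2 F v u = -1 := by rw [sympForm_swap, hv3]
  have hvsu : sympForm 2 F v (s *ᵥ u) = 0 := by rw [sympForm_swap, hv4, neg_zero]
  let fl : Fin 2 → (I4 → F) := ![v, (-b⁻¹) • (s *ᵥ v)]
  let fr : Fin 2 → (I4 → F) := ![u, s *ᵥ u]
  have hll : ∀ i j, sympForm 2 F (fl i) (fl j) = 0 := by
    intro i j
    fin_cases i <;> fin_cases j
    · exact sympForm_self _
    · change sympForm 2 F v ((-b⁻¹) • (s *ᵥ v)) = 0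
      rw [sympForm_smul_right, hvv, mul_zero]
    · change sympForm 2 F ((-b⁻¹) • (s *ᵥ v)) v = 0
      rw [sympForm_smul_left, hv5, mul_zero]
    · exact sympForm_self _
  have hrr' : ∀ i j, sympForm 2 F (fr i) (fr j) = 0 := by
    intro i j
    fin_cases i <;> fin_cases j
    · exact sympForm_self _
    · exact hsu
    · exact hu
    · exact sympForm_self _
  have hlr : ∀ i j, sympForm 2 F (fl i) (fr j) = if i = j then -1 else 0 := by
    intro i j
    fin_cases i <;> fin_cases j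
    · exact hvu
    · exact hvsu
    · change sympForm 2 F ((-b⁻¹) • (s *ᵥ v)) u = 0
      rw [sympForm_smul_left, sympForm_swap, hsv, neg_zero, mul_zero]
    · change sympForm 2 F ((-b⁻¹) • (s *ᵥ v)) (s *ᵥ u) = -1
      rw [sympForm_smul_left, hpr, hvu]
      field_simp
  obtain ⟨P, hP, hcol⟩ := exists_spGL_of_family (Sum.elim fl fr) (by
    rintro (i | i) (j | j)
    · rw [J_apply_inl_inl]; exact hll i j
    · rw [J_apply_inl_inr]; exact hlr i j
    · rw [J_apply_inr_inl]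
      show sympForm 2 F (fr i) (fl j) = _
      rw [sympForm_swap, hlr]
      by_cases h : i = j
      · subst h; simp
      · rw [if_neg (Ne.symm h), if_neg h, neg_zero]
    · rw [J_apply_inr_inr]; exact hrr' i j)
  refine ⟨P, hP, ?_⟩
  apply ext_single
  intro a
  rw [← Matrix.mulVec_mulVec, ← Matrix.mulVec_mulVec, hcol]
  have hc : ∀ w : I4 → F, P.1 *ᵥ w = w (Sum.inl 0) • fl 0 + w (Sum.inl 1) • fl 1 + w (Sum.inr 0) • fr 0 + w (Sum.inr 1) • fr 1 := by
    intro w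
    have hsum : w = w (Sum.inl 0) • Pi.single (Sum.inl 0) (1 : F) + w (Sum.inl 1) • Pi.single (Sum.inl 1) (1 : F) +
        w (Sum.inr 0) • Pi.single (Sum.inr 0) (1 : F) + w (Sum.inr 1) • Pi.single (Sum.inr 1) (1 : F) := by
      ext (i | i) <;> fin_cases i <;> simp
    conv_lhs => rw [hsum]
    simp only [Matrix.mulVec_add, Matrix.mulVec_smul, hcol]
    rfl
  rw [hc]
  have hz : ∀ a c : I4, (sk b *ᵥ Pi.single a 1) c = sk b c a := fun a c => by
    rw [Matrix.mulVec_single_one]; rfl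
  rw [hz, hz, hz, hz]
  have e1 : s *ᵥ ((-b⁻¹) • (s *ᵥ v)) = -v := by
    rw [Matrix.mulVec_smul, hss, smul_smul, neg_mul, inv_mul_cancel₀ hb0, neg_smul, one_smul]
  have e2 : (-b) • ((-b⁻¹) • (s *ᵥ v)) = s *ᵥ v := by
    rw [smul_smul, neg_mul_neg, mul_inv_cancel₀ hb0, one_smul]
  rcases a with a | a <;> fin_cases a
  · change s *ᵥ v = (0 : F) • v + (-b) • ((-b⁻¹) • (s *ᵥ v)) + (0 : F) • u + (0 : F) • (s *ᵥ u)
    rw [e2]; simp
  · change s *ᵥ ((-b⁻¹) • (s *ᵥ v)) = (-1 : F) • v + (0 : F) • ((-b⁻¹) • (s *ᵥ v)) + (0 : F) • u + (0 : F) • (s *ᵥ u)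
    rw [e1]; simp
  · change s *ᵥ u = (0 : F) • v + (0 : F) • ((-b⁻¹) • (s *ᵥ v)) + (0 : F) • u + (1 : F) • (s *ᵥ u)
    simp
  · change s *ᵥ (s *ᵥ u) = (0 : F) • v + (0 : F) • ((-b⁻¹) • (s *ᵥ v)) + b • u + (0 : F) • (s *ᵥ u)
    rw [hss]; simp

/-- the isometry of trace `t` commuting with `sk b` -/
def tg (b t : F) : Matrix I4 I4 F := fromBlocks 0 !![1, 0; 0, -b] !![-1, 0; 0, b⁻¹] !![t / 2, 0; 0, t / 2]

theorem tg_comm (b t : F) (hb : b ≠ 0) : tg b t * sk b = sk b * tg b t := by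
  rw [tg, sk, fromBlocks_multiply, fromBlocks_multiply, fromBlocks_inj]
  refine ⟨?_, ?_, ?_, ?_⟩ <;> ext i j <;> fin_cases i <;> fin_cases j <;>
    simp [hb]
  all_goals ring

theorem tg_symp (b t : F) (hb : b ≠ 0) : (tg b t)ᵀ * Matrix.J (Fin 2) F * tg b t = Matrix.J (Fin 2) F := by
  rw [tg, Matrix.J, fromBlocks_transpose, fromBlocks_multiply, fromBlocks_multiply, fromBlocks_inj]
  refine ⟨?_, ?_, ?_, ?_⟩ <;> ext i j <;> fin_cases i <;> fin_cases j <;>
    simp [Matrix.mul_apply, Fin.sum_univ_two, hb]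
  ring

/-- every element of `F` is a trace of an element of the unitary type group -/
theorem T5_trace [Fintype F] (h2 : (2 : F) ≠ 0) {K : Subalgebra F (Matrix I4 I4 F)} (hK : IsFieldSubalgebra 2 K)
    (hac : IsAdjointClosedFor (sympForm 2 F) K) (hns : ¬ IsSelfAdjointFor (sympForm 2 F) K) (t : F) :
    ∃ g ∈ subalgebraNormalizer K ⊓ spGL 2 F, (g : Matrix I4 I4 F).trace = t := by
  obtain ⟨s, hsK, b, hs2, hb, hskew, hgen⟩ := exists_skew_generator h2 hK hac hns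
  have hb0 : b ≠ 0 := fun h => hb ⟨0, by rw [h, mul_zero]⟩
  obtain ⟨P, hP, hPs⟩ := exists_adapted_skew h2 hs2 hb hskew
  have hdet : IsUnit (tg b t) := by
    rw [Matrix.isUnit_iff_isUnit_det]
    exact (SymplecticGroup.mem_iff'.2 (tg_symp b t hb0) : tg b t ∈ Matrix.symplecticGroup (Fin 2) F) |> SymplecticGroup.symplectic_det
  obtain ⟨h, hh⟩ := hdet
  have hhsp : h ∈ spGL 2 F := mem_spGL_iff_transpose.2 (by rw [hh]; exact tg_symp b t hb0)
  refine ⟨P * h * P⁻¹, Subgroup.mem_inf.2 ⟨?_, mul_mem (mul_mem hP hhsp) (inv_mem hP)⟩, ?_⟩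
  · -- it commutes with `s`
    have hPinv : (P⁻¹ : GL I4 F).1 * P.1 = 1 := by rw [← Units.val_mul, inv_mul_cancel, Units.val_one]
    have hPinv' : P.1 * (P⁻¹ : GL I4 F).1 = 1 := by rw [← Units.val_mul, mul_inv_cancel, Units.val_one]
    have hPs' : (P⁻¹ : GL I4 F).1 * s = sk b * (P⁻¹ : GL I4 F).1 := by
      calc (P⁻¹ : GL I4 F).1 * s = (P⁻¹ : GL I4 F).1 * (s * P.1) * (P⁻¹ : GL I4 F).1 := by
            rw [mul_assoc, mul_assoc, hPinv', mul_one]
        _ = ((P⁻¹ : GL I4 F).1 * P.1) * (sk b * (P⁻¹ : GL I4 F).1) := by rw [hPs]; simp only [mul_assoc]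
        _ = sk b * (P⁻¹ : GL I4 F).1 := by rw [hPinv, one_mul]
    have hcs : (P * h * P⁻¹ : GL I4 F).1 * s = s * (P * h * P⁻¹ : GL I4 F).1 := by
      rw [Units.val_mul, Units.val_mul, hh, mul_assoc, hPs', ← mul_assoc, mul_assoc P.1, tg_comm b t hb0, ← mul_assoc, ← mul_assoc,
        ← hPs]
      simp only [mul_assoc]
    intro k
    have key : ∀ k ∈ K, (P * h * P⁻¹ : GL I4 F).1 * k * ((P * h * P⁻¹ : GL I4 F)⁻¹).1 = k := by
      intro k hk
      obtain ⟨a, c, rfl⟩ := hgen k hk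
      have : (P * h * P⁻¹ : GL I4 F).1 * (a • 1 + c • s) = (a • 1 + c • s) * (P * h * P⁻¹ : GL I4 F).1 := by
        rw [mul_add, add_mul, mul_smul_comm, mul_smul_comm, smul_mul_assoc, smul_mul_assoc, mul_one, one_mul, hcs]
      rw [this, mul_assoc, ← Units.val_mul, mul_inv_cancel, Units.val_one, mul_one]
    constructor
    · intro hk
      rw [key k hk]; exact hk
    · intro hk
      have h1 := key _ hk
      have h2 : k = (P * h * P⁻¹ : GL I4 F).1 * k * ((P * h * P⁻¹ : GL I4 F)⁻¹).1 := by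
        set g := P * h * P⁻¹ with hg
        have hg1 : (g⁻¹ : GL I4 F).1 * g.1 = 1 := by rw [← Units.val_mul, inv_mul_cancel, Units.val_one]
        have h3 : (g⁻¹ : GL I4 F).1 * (g.1 * (g.1 * k * (g⁻¹ : GL I4 F).1) * (g⁻¹ : GL I4 F).1) * g.1 =
            (g⁻¹ : GL I4 F).1 * (g.1 * k * (g⁻¹ : GL I4 F).1) * g.1 := by rw [h1]
        calc k = ((g⁻¹ : GL I4 F).1 * g.1) * k * ((g⁻¹ : GL I4 F).1 * g.1) := by rw [hg1, one_mul, mul_one]
          _ = (g⁻¹ : GL I4 F).1 * (g.1 * k * (g⁻¹ : GL I4 F).1) * g.1 := by simp only [mul_assoc]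
          _ = (g⁻¹ : GL I4 F).1 * (g.1 * (g.1 * k * (g⁻¹ : GL I4 F).1) * (g⁻¹ : GL I4 F).1) * g.1 := h3.symm
          _ = ((g⁻¹ : GL I4 F).1 * g.1) * (g.1 * k * (g⁻¹ : GL I4 F).1) * ((g⁻¹ : GL I4 F).1 * g.1) := by simp only [mul_assoc]
          _ = g.1 * k * (g⁻¹ : GL I4 F).1 := by rw [hg1, one_mul, mul_one]
      rw [h2]; exact hk
  · rw [trace_conj, hh, tg, trace_blocks, trace_zero, zero_add, trace_fin_two]
    have h : t / 2 + t / 2 = t := by field_simp; ring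
    simpa using h

end Skew

end Cfsg.Agent.H328.Sp4TI
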