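import Cfsg.Agent.H444.ThLoc
import Cfsg.Agent.H257.El.Part
import Cfsg.Agent.OrdDiv.Table

/-!
# `Th`: no proper subgroup has order divisible by 19 and by 13 or 31 (S3938, helper328)
-/

set_option autoImplicit false

namespace Cfsg.Agent.H328.SprThTop

open Subgroup Cfsg Cfsg.Agent.OrdDiv Cfsg.Agent.H257.El

theorem card_Th : Nat.card Spor.Th = 90745943887872000 := Cfsg.Agent.S1700.result.2

/-- elements of order 19 commute with no elements of another prime order -/
theorem no19 {s : ℕ} (hs : s.Prime) (h : ¬ s ∣ 19) (z : Spor.Th) : orderOf z ≠ 19 * s := by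
  intro hz
  have h19 : orderOf (z ^ s) = 19 := by
    rw [orderOf_pow_of_dvd hs.ne_zero (by rw [hz]; exact dvd_mul_left _ _), hz, Nat.mul_div_cancel _ hs.pos]
  have hs' : orderOf (z ^ 19) = s := by
    rw [orderOf_pow_of_dvd (by norm_num) (by rw [hz]; exact dvd_mul_right _ _), hz, Nat.mul_div_cancel_left _ (by norm_num)]
  obtain ⟨h1, h2⟩ := H444.ThLoc.card_cent_of (r := 19) (by norm_num) h19
  have h3 := (H444.ThLoc.cn19 h1).1
  rw [h2] at h3
  have h4 : z ^ 19 ∈ centralizer ({z ^ s} : Set Spor.Th) := by
    rw [mem_centralizer_singleton_iff, ← pow_add, ← pow_add, add_comm]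
  have h5 := Subgroup.orderOf_dvd_natCard _ h4
  rw [h3, hs'] at h5
  exact h h5

/-- the factorisation of the order -/
def l : List (ℕ × ℕ) := [(2, 15), (3, 10), (5, 3), (7, 2), (13, 1), (19, 1), (31, 1)]

theorem chk13 : chkF 90745943887872000 l 19 13 [] = true := by decide +kernel

theorem chk31 : chkF 90745943887872000 l 19 31 [] = true := by decide +kernel

/-- **no proper subgroup has order divisible by 19 and by 13 or 31** -/
theorem not_both (known : Known.{0}) {R : Subgroup Spor.Th} (hR : R ≠ ⊤) (h19 : 19 ∣ Nat.card R)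
    (h : 13 ∣ Nat.card R ∨ 31 ∣ Nat.card R) : False := by
  have hfin : Finite Spor.Th := Nat.finite_of_card_ne_zero (by rw [card_Th]; norm_num)
  rcases h with h | h
  · exact false_of_chk OrdDiv.table known card_Th (by norm_num) (by norm_num) (no19 (by norm_num) (by norm_num))
      (by simp) chk13 hR h19 h (by simp)
  · exact false_of_chk OrdDiv.table known card_Th (by norm_num) (by norm_num) (no19 (by norm_num) (by norm_num))
      (by simp) chk31 hR h19 h (by simp)

end Cfsg.Agent.H328.SprThTop
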